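import Mathlib
import Cfsg.Agent.Lib.Helper63.BB.Defs
import Cfsg.Agent.S0662

/-!
# S4144 project "BB": package [TOPIDX] (the case `H = ⊤`)
-/

set_option autoImplicit false

namespace Cfsg.Agent.Lib.Helper84.BB

open Cfsg.Agent.Lib.Helper63.BB Cfsg.Agent.Lib.Helper63.MC

universe u

theorem closure_pow_normal {X : Type u} [Group X] (p : ℕ) :
    (Subgroup.closure {y : X | ∃ h ∈ (⊤ : Subgroup X), y = h ^ p}).Normal := by
  constructor
  intro x hx c
  induction hx using Subgroup.closure_induction with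
  | mem y hy =>
    obtain ⟨h, -, rfl⟩ := hy
    refine Subgroup.subset_closure ⟨c * h * c⁻¹, Subgroup.mem_top _, ?_⟩
    rw [conj_pow]
  | one => simp
  | mul a b _ _ iha ihb =>
    have e : c * (a * b) * c⁻¹ = (c * a * c⁻¹) * (c * b * c⁻¹) := by group
    rw [e]
    exact Subgroup.mul_mem _ iha ihb
  | inv a _ iha =>
    have e : c * a⁻¹ * c⁻¹ = (c * a * c⁻¹)⁻¹ := by group
    rw [e]
    exact Subgroup.inv_mem _ iha

theorem pkgTopIdx : PkgTopIdx.{u} := by
  intro X _ _ p _ n hn hcard hcl hg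
  obtain ⟨g, hg⟩ := hg
  have hp : p.Prime := Fact.out
  rw [Subgroup.relIndex_top_right]
  have hgV : g ^ p ∈ Subgroup.closure {y : X | ∃ h ∈ (⊤ : Subgroup X), y = h ^ p} :=
    Subgroup.subset_closure ⟨g, Subgroup.mem_top g, rfl⟩
  have hVn : (Subgroup.closure {y : X | ∃ h ∈ (⊤ : Subgroup X), y = h ^ p}).Normal :=
    closure_pow_normal p
  generalize Subgroup.closure {y : X | ∃ h ∈ (⊤ : Subgroup X), y = h ^ p} = V at hgV hVn ⊢
  have hdiv : V.index ∣ p ^ n := by
    rw [← hcard]; exact Subgroup.index_dvd_card V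
  obtain ⟨r, hr, hVr⟩ := (Nat.dvd_prime_pow hp).mp hdiv
  rw [hVr]
  apply Nat.pow_le_pow_right hp.pos
  by_contra hlt
  push_neg at hlt
  have hr2 : 2 ≤ r := by
    have := hp.two_le
    omega
  haveI := hVn
  have hVL := (Cfsg.Agent.S0662.result (G := X) (p := p) n hcard hcl hn).1 V r hr2 hVr
  apply hg
  have hle : L X (r - 1) ≤ L X p := Subgroup.lowerCentralSeries_antitone _ (by omega)
  apply hle
  rw [hVL] at hgV
  exact hgV

end Cfsg.Agent.Lib.Helper84.BB
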